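import Mathlib
import Groth.Agent.Lib.Helper17.MT25

/-!
# Sections of a quotient of a pushforward along `i` are killed by the kernel of `i^#`
-/

set_option autoImplicit false
universe u
open CategoryTheory CategoryTheory.Limits AlgebraicGeometry Opposite TopologicalSpace

namespace Groth.Agent.Helper19.QCohAdj

variable {Z X : Scheme.{u}}

/-- sections agreeing locally agree -/
theorem eq_of_locally_eq (L : X.Modules) {V : X.Opens} (m m' : Γ(L, V))
    (h : ∀ y : V, ∃ (N : X.Opens) (hN : N ≤ V), y.1 ∈ N ∧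
      L.presheaf.map (homOfLE hN).op m = L.presheaf.map (homOfLE hN).op m') : m = m' := by
  apply TopCat.Presheaf.section_ext ⟨L.presheaf, L.isSheaf⟩
  intro z hz
  obtain ⟨N, hN, hzN, e⟩ := h ⟨z, hz⟩
  change L.presheaf.germ V z hz m = L.presheaf.germ V z hz m'
  rw [← TopCat.Presheaf.germ_res_apply L.presheaf (homOfLE hN) z hzN m,
    ← TopCat.Presheaf.germ_res_apply L.presheaf (homOfLE hN) z hzN m', e]

/-- an epimorphism of modules is locally surjective on sections -/
theorem exists_local_lift {P Q : X.Modules} (e : P ⟶ Q) [Epi e] {U : X.Opens} (t : Γ(Q, U))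
    (y : X) (hy : y ∈ U) :
    ∃ (N : X.Opens) (hN : N ≤ U) (_ : y ∈ N) (r : Γ(P, N)),
      e.app N r = Q.presheaf.map (homOfLE hN).op t := by
  have h1 : Sheaf.IsLocallySurjective ((SheafOfModules.toSheaf.{u} X.ringCatSheaf).map e) :=
    (Groth.Agent.Helper17.MT.epi_iff_isLocallySurjective (R := X.ringCatSheaf) e).1 ‹Epi e›
  have h2 := Presheaf.imageSieve_mem (Opens.grothendieckTopology X)
    ((SheafOfModules.toSheaf.{u} X.ringCatSheaf).map e).hom (U := op U) t
  obtain ⟨N, f, ⟨r, hr⟩, hyN⟩ := h2 y hy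
  exact ⟨N, f.le, hyN, r, hr⟩

/-- sections of a quotient of a pushforward are killed by the kernel of `i^#` -/
theorem smul_eq_zero_of_epi_push (i : Z ⟶ X) (M : Z.Modules) {P : X.Modules}
    (e : (Scheme.Modules.pushforward i).obj M ⟶ P) [Epi e] {U : X.Opens} (a : Γ(X, U))
    (ha : i.app U a = 0) (t : Γ(P, U)) : a • t = 0 := by
  apply eq_of_locally_eq P
  rintro ⟨y, hy⟩
  obtain ⟨N, hN, hyN, r, hr⟩ := exists_local_lift e t y hy
  refine ⟨N, hN, hyN, ?_⟩
  rw [map_zero, Scheme.Modules.map_smul, ← hr, ← Scheme.Modules.Hom.app_smul]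
  have h0 : (X.presheaf.map (homOfLE hN).op a • r : Γ((Scheme.Modules.pushforward i).obj M, N)) =
      ((i.app N (X.presheaf.map (homOfLE hN).op a)) • (id r : Γ(M, i ⁻¹ᵁ N)) : Γ(M, i ⁻¹ᵁ N)) := rfl
  have h1 : i.app N (X.presheaf.map (homOfLE hN).op a) = 0 := by
    have := i.naturality (homOfLE hN).op
    have h2 := congrArg (fun φ => φ.hom a) this
    simp only [CommRingCat.hom_comp, RingHom.coe_comp, Function.comp_apply] at h2
    rw [h2, ha, map_zero]
  rw [h0, h1, zero_smul]
  exact map_zero _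

end Groth.Agent.Helper19.QCohAdj
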