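import Mathlib
import Groth.Prelude.Def_QCohCat
import Groth.Prelude.Def_Coh
import Groth.Agent.S9362
import Groth.Agent.S9376
import Groth.Agent.Lib.Helper28.PushClosedAdj
import Groth.Agent.Lib.Helper5.CI4
import Groth.Agent.Lib.Helper13.QCohPush
import Groth.Agent.Lib.Helper13.PullbackLocal
import Groth.Agent.Lib.Helper13.LocLift
import Groth.Agent.Lib.Helper19.QCohAdj.Kill

/-!
# The pushforward of quasi-coherent modules along a closed immersion has a right adjoint
-/

set_option autoImplicit false
universe u
open CategoryTheory CategoryTheory.Limits AlgebraicGeometry Opposite TopologicalSpace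

namespace Groth.Agent.Helper19.QCohAdj

/-- a functor is a left adjoint as soon as every object admits a universal arrow from it -/
theorem isLeftAdjoint_of_universal {C D : Type*} [Category C] [Category D] (G : D ⥤ C)
    (h : ∀ A : C, ∃ (K : D) (c : G.obj K ⟶ A), ∀ (H : D) (φ : G.obj H ⟶ A),
      ∃! f : H ⟶ K, G.map f ≫ c = φ) : G.IsLeftAdjoint := by
  have : ∀ A, HasTerminal (CostructuredArrow G A) := by
    intro A
    obtain ⟨K, c, hc⟩ := h A
    have hT : IsTerminal (CostructuredArrow.mk c) := by
      refine IsTerminal.ofUniqueHom (fun T => CostructuredArrow.homMk (hc T.left T.hom).choose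
        (hc T.left T.hom).choose_spec.1) ?_
      intro T m
      ext
      exact (hc T.left T.hom).choose_spec.2 m.left (CostructuredArrow.w m)
    exact hT.hasTerminal
  exact isLeftAdjoint_of_costructuredArrowTerminals G

variable {Z X : Scheme.{u}} (i : Z ⟶ X) [IsClosedImmersion i]

/-- pushforward along a closed immersion is fully faithful -/
noncomputable def pushFF : (Scheme.Modules.pushforward i).FullyFaithful := by
  haveI : ∀ M, IsIso ((Scheme.Modules.pullbackPushforwardAdjunction i).counit.app M) :=
    fun M => Groth.Agent.Helper5.CI.isIso_counit i M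
  haveI : IsIso (Scheme.Modules.pullbackPushforwardAdjunction i).counit :=
    NatIso.isIso_of_isIso_app _
  exact (Scheme.Modules.pullbackPushforwardAdjunction i).fullyFaithfulROfIsIsoCounit

/-- the universal arrow for the pushforward of modules, restricted to quasi-coherent modules -/
theorem exists_universal (G : X.Modules) (hG : Coh.IsQCoh G) :
    ∃ (K : Z.Modules) (_ : Coh.IsQCoh K) (c : (Scheme.Modules.pushforward i).obj K ⟶ G),
      ∀ (H : Z.Modules), Coh.IsQCoh H → ∀ φ : (Scheme.Modules.pushforward i).obj H ⟶ G,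
        ∃! f : H ⟶ K, (Scheme.Modules.pushforward i).map f ≫ c = φ := by
  haveI : (Scheme.Modules.pushforward i).IsLeftAdjoint :=
    Groth.Agent.Helper28.PushClosedAdj.pushforward_isLeftAdjoint i
  let adj := Adjunction.ofIsLeftAdjoint (Scheme.Modules.pushforward i)
  let Rm := (Scheme.Modules.pushforward i).rightAdjoint
  let ε : (Scheme.Modules.pushforward i).obj (Rm.obj G) ⟶ G := adj.counit.app G
  obtain ⟨G', k, hG', hk, hbij⟩ := Groth.Agent.S9362.result X G (Limits.image ε) hG (Limits.image.ι ε)
  haveI := hk
  -- the ideal kills `G'`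
  have hkill : ∀ (U : X.affineOpens) (a : Γ(X, U.1)), a ∈ i.ker.ideal U →
      ∀ s : Γ(G', U.1), a • s = 0 := by
    intro U a ha s
    apply Groth.Agent.Helper13.LocLift.app_injective_of_mono k U.1
    rw [Scheme.Modules.Hom.app_smul, map_zero]
    refine smul_eq_zero_of_epi_push i (Rm.obj G) (factorThruImage ε) a ?_ _
    rw [Scheme.Hom.ker_apply, RingHom.mem_ker] at ha
    exact ha
  have hη : IsIso ((Scheme.Modules.pullbackPushforwardAdjunction i).unit.app G') :=
    (Groth.Agent.S9376.result i G' hG').2 hkill
  let η := (Scheme.Modules.pullbackPushforwardAdjunction i).unit.app G'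
  haveI : G'.IsQuasicoherent := hG'
  have hK : Coh.IsQCoh ((Scheme.Modules.pullback i).obj G') :=
    Groth.Agent.Helper13.Pullback.isQuasicoherent_pullback (f := i) G'
  let c : (Scheme.Modules.pushforward i).obj ((Scheme.Modules.pullback i).obj G') ⟶ G :=
    inv η ≫ k ≫ Limits.image.ι ε
  haveI : Mono c := by
    haveI : Mono (k ≫ Limits.image.ι ε) := mono_comp _ _
    exact mono_comp _ _
  refine ⟨(Scheme.Modules.pullback i).obj G', hK, c, ?_⟩
  intro H hH φ
  haveI : H.IsQuasicoherent := hH
  have hpH : Coh.IsQCoh ((Scheme.Modules.pushforward i).obj H) :=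
    Groth.Agent.Helper13.QCohPush.isQuasicoherent_pushforward i H
  -- factor `φ` through the image of the counit
  let φb : H ⟶ Rm.obj G := adj.homEquiv _ _ φ
  have hφ : φ = (Scheme.Modules.pushforward i).map φb ≫ ε := by
    have := (adj.homEquiv_counit (X := H) (Y := G) (g := φb)).symm
    rw [this]
    exact ((adj.homEquiv _ _).symm_apply_apply φ).symm
  let ψ : (Scheme.Modules.pushforward i).obj H ⟶ Limits.image ε :=
    (Scheme.Modules.pushforward i).map φb ≫ factorThruImage ε
  have hψ : ψ ≫ Limits.image.ι ε = φ := by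
    rw [hφ, Category.assoc, image.fac]
  obtain ⟨χ, hχ⟩ := (hbij _ hpH).2 ψ
  simp only at hχ
  refine ⟨(pushFF i).preimage (χ ≫ η), ?_, ?_⟩
  · show (Scheme.Modules.pushforward i).map ((pushFF i).preimage (χ ≫ η)) ≫ c = φ
    rw [(pushFF i).map_preimage]
    show (χ ≫ η) ≫ inv η ≫ k ≫ Limits.image.ι ε = φ
    rw [Category.assoc, IsIso.hom_inv_id_assoc, ← Category.assoc, hχ, hψ]
  · intro f' hf'
    apply (pushFF i).map_injective
    rw [(pushFF i).map_preimage, ← cancel_mono c, hf']
    show φ = (χ ≫ η) ≫ inv η ≫ k ≫ Limits.image.ι ε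
    rw [Category.assoc, IsIso.hom_inv_id_assoc, ← Category.assoc, hχ, hψ]

end Groth.Agent.Helper19.QCohAdj
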